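import Mathlib.Algebra.MvPolynomial.Equiv
import Mathlib.Algebra.MvPolynomial.Rename
import Mathlib.RingTheory.Polynomial.UniqueFactorization
import Mathlib.RingTheory.Polynomial.Basic
import Mathlib.Tactic

/-!
# A prime ideal of a polynomial ring with no element free of one variable is principal
-/

set_option autoImplicit false

universe u v

namespace Groth.Agent.DiscIrr42

open Polynomial in
theorem exists_irreducible_span {S : Type u} [CommRing S] [IsDomain S] [UniqueFactorizationMonoid S]
    (I : Ideal S[X]) [hI : I.IsPrime] (hne : I ≠ ⊥) (hc : ∀ s : S, C s ∈ I → s = 0) :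
    ∃ P : S[X], Irreducible P ∧ I = Ideal.span {P} := by
  classical
  obtain ⟨Q₀, hQ₀, hQ₀0⟩ := (Submodule.ne_bot_iff I).1 hne
  have hex : ∃ m, ∃ Q ∈ I, Q ≠ 0 ∧ Q.natDegree = m := ⟨_, Q₀, hQ₀, hQ₀0, rfl⟩
  obtain ⟨Q, hQ, hQ0, hQm⟩ := Nat.find_spec hex
  have hmin : ∀ R ∈ I, R ≠ 0 → Nat.find hex ≤ R.natDegree := fun R hR hR0 =>
    Nat.find_min' hex ⟨R, hR, hR0, rfl⟩
  -- an irreducible factor in the ideal
  obtain ⟨f, hf, hfQ⟩ : ∃ f : Multiset S[X], (∀ a ∈ f, Irreducible a) ∧ Associated f.prod Q :=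
    WfDvdMonoid.exists_factors Q hQ0
  have hfI : f.prod ∈ I := by
    obtain ⟨u, hu⟩ := hfQ.symm
    rw [← hu]; exact I.mul_mem_right _ hQ
  obtain ⟨P, hPf, hPI⟩ := (hI.multiset_prod_mem_iff_exists_mem f).1 hfI
  have hP := hf P hPf
  have hdeg : P.natDegree = Nat.find hex := by
    refine le_antisymm ?_ (hmin P hPI hP.ne_zero)
    rw [← hQm]
    exact natDegree_le_of_dvd ((Multiset.dvd_prod hPf).trans hfQ.dvd) hQ0
  have hpos : 0 < P.natDegree := by
    refine Nat.pos_of_ne_zero fun h => hP.ne_zero ?_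
    rw [eq_C_of_natDegree_eq_zero h] at hPI ⊢
    rw [hc _ hPI, C_0]
  -- pseudo-division
  have hdiv : ∀ d : ℕ, ∀ R ∈ I, R.natDegree ≤ d → ∃ N, P ∣ C P.leadingCoeff ^ N * R := by
    intro d
    induction d using Nat.strong_induction_on with
    | _ d ih =>
      intro R hR hRd
      rcases eq_or_ne R 0 with rfl | hR0
      · exact ⟨0, by simp⟩
      have hle : P.natDegree ≤ R.natDegree := hdeg ▸ hmin R hR hR0
      set R' := C P.leadingCoeff * R - C R.leadingCoeff * X ^ (R.natDegree - P.natDegree) * P with hR'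
      have hR'I : R' ∈ I := sub_mem (I.mul_mem_left _ hR) (I.mul_mem_left _ hPI)
      have hlt : R'.natDegree < R.natDegree := by
        refine Nat.lt_of_le_of_ne (natDegree_le_iff_coeff_eq_zero.2 fun j hj => ?_) fun he => ?_
        · rw [hR', coeff_sub, coeff_C_mul, coeff_eq_zero_of_natDegree_lt hj, mul_zero, mul_assoc, coeff_C_mul,
            coeff_X_pow_mul', if_pos (by omega), coeff_eq_zero_of_natDegree_lt (by omega), mul_zero, sub_zero]
        · have h0 : R'.coeff R.natDegree = 0 := by
            rw [hR', coeff_sub, coeff_C_mul, mul_assoc, coeff_C_mul, coeff_X_pow_mul', if_pos (by omega),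
              show R.natDegree - (R.natDegree - P.natDegree) = P.natDegree by omega, coeff_natDegree,
              coeff_natDegree]
            ring
          rw [← he, coeff_natDegree, leadingCoeff_eq_zero] at h0
          rw [h0, natDegree_zero] at he
          omega
      obtain ⟨N, hN⟩ := ih R'.natDegree (by omega) R' hR'I le_rfl
      refine ⟨N + 1, ?_⟩
      have e : C P.leadingCoeff ^ (N + 1) * R =
          C P.leadingCoeff ^ N * R' + C P.leadingCoeff ^ N * C R.leadingCoeff * X ^ (R.natDegree - P.natDegree) * P := by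
        rw [hR', pow_succ]; ring
      rw [e]
      exact dvd_add hN (dvd_mul_left P _)
  refine ⟨P, hP, le_antisymm (fun R hR => ?_) ((Ideal.span_singleton_le_iff_mem _).2 hPI)⟩
  obtain ⟨N, hN⟩ := hdiv R.natDegree R hR le_rfl
  refine Ideal.mem_span_singleton.2 ((hP.prime.dvd_or_dvd hN).resolve_left fun h => ?_)
  have h' := natDegree_le_of_dvd (hP.prime.dvd_of_dvd_pow h)
    (C_ne_zero.2 (leadingCoeff_ne_zero.2 hP.ne_zero))
  rw [natDegree_C] at h'
  omega

open MvPolynomial in
/-- The same for multivariate polynomials, with a distinguished variable. -/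
theorem exists_irreducible_span_mv {k : Type u} [Field k] {ι : Type v} [DecidableEq ι] (i₀ : ι)
    (I : Ideal (MvPolynomial ι k)) [hI : I.IsPrime] (hne : I ≠ ⊥)
    (hfree : ∀ q : MvPolynomial {i // i ≠ i₀} k, rename Subtype.val q ∈ I → q = 0) :
    ∃ P : MvPolynomial ι k, Irreducible P ∧ I = Ideal.span {P} := by
  let e : MvPolynomial ι k ≃ₐ[k] Polynomial (MvPolynomial {i // i ≠ i₀} k) :=
    (renameEquiv k (Equiv.optionSubtypeNe i₀).symm).trans (optionEquivLeft k {i // i ≠ i₀})
  have hes : ∀ q, e (rename Subtype.val q) = Polynomial.C q := fun q => by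
    induction q using MvPolynomial.induction_on with
    | C a => simp [e]
    | add p q hp hq => rw [map_add, map_add, hp, hq, map_add]
    | mul_X p i hp =>
      rw [map_mul, map_mul, hp, rename_X, Polynomial.C_mul]
      congr 1
      simp only [e, AlgEquiv.trans_apply, renameEquiv_apply, rename_X]
      rw [Equiv.optionSubtypeNe_symm_of_ne i.2, optionEquivLeft_X_some]
  let e' := e.symm.toRingEquiv.toRingHom
  have hne' : I.comap e' ≠ ⊥ := by
    obtain ⟨Q, hQ, hQ0⟩ := (Submodule.ne_bot_iff I).1 hne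
    exact (Submodule.ne_bot_iff _).2 ⟨e Q, by simpa [e'] using hQ, by simpa using hQ0⟩
  obtain ⟨P, hP, hspan⟩ := exists_irreducible_span (I.comap e') hne' fun s hs => hfree s (by
    rw [Ideal.mem_comap] at hs
    simpa [e', ← hes] using hs)
  refine ⟨e.symm P, (MulEquiv.irreducible_iff e.symm.toMulEquiv).2 hP, le_antisymm (fun Q hQ => ?_) ?_⟩
  · have : e Q ∈ I.comap e' := by simpa [e'] using hQ
    rw [hspan, Ideal.mem_span_singleton] at this
    obtain ⟨c, hc⟩ := this
    exact Ideal.mem_span_singleton.2 ⟨e.symm c, by rw [← map_mul, ← hc, e.symm_apply_apply]⟩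
  · rw [Ideal.span_singleton_le_iff_mem]
    have : P ∈ I.comap e' := hspan ▸ Ideal.mem_span_singleton_self P
    simpa [e'] using this

end Groth.Agent.DiscIrr42
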