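import Groth.Agent.Incid42.Tangent
import Groth.Agent.Incid42.Elim
import Groth.Agent.SmoothFormLib.Forms

/-!
# A general form has a singular translate in a fixed direction
-/

set_option autoImplicit false

universe u

open LefPen MvPolynomial

namespace Groth.Agent.DiscIrr42

open Groth.Agent.Incid42

variable {k : Type u} [Field k] {n d : ℕ}

/-- `G` has a singular point (or is zero). -/
def IsSing (G : Form n k d) : Prop :=
  ∃ v : Fin (n + 1) → k, v ≠ 0 ∧ eval v G.1 = 0 ∧ ∀ i, eval v (pderiv i G.1) = 0

theorem euler (G : Form n k d) (v : Fin (n + 1) → k) :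
    ∑ i, v i * eval v (pderiv i G.1) = d * eval v G.1 := by
  have h := congrArg (eval v) ((mem_homogeneousSubmodule _ _).1 G.2).sum_X_mul_pderiv
  simpa [map_sum] using h

theorem isPolyFamily_form : IsPolyFamily k fun G : Form n k d => G.1 := fun e =>
  isPolyFun_linear ((lcoeff k e).comp (Submodule.subtype (homogeneousSubmodule (Fin (n + 1)) k d)))

theorem isPolyFamily_pderiv (i : Fin (n + 1)) : IsPolyFamily k fun G : Form n k d => pderiv i G.1 := fun e =>
  isPolyFun_linear ((lcoeff k e).comp ((pderiv i).toLinearMap.comp
    (Submodule.subtype (homogeneousSubmodule (Fin (n + 1)) k d))))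

theorem isZOpen_smooth [IsAlgClosed k] (hd : 1 ≤ d) : IsZOpen k {G : Form n k d | ¬ IsSing G} := by
  have h := isZOpen_noCommonZero (k := k) (V := Form n k d) (p := n)
    (P := fun (t : Option (Fin (n + 1))) G => t.elim G.1 fun i => pderiv i G.1)
    (e := fun t => t.elim d fun _ => d - 1)
    (fun t G => by
      cases t with
      | none => exact (mem_homogeneousSubmodule _ _).1 G.2
      | some i => exact ((mem_homogeneousSubmodule _ _).1 G.2).pderiv)
    (fun t => by cases t with
      | none => exact isPolyFamily_form
      | some i => exact isPolyFamily_pderiv i)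
  convert h using 1
  ext G
  simp only [Set.mem_setOf_eq, IsSing, not_exists, not_and]
  constructor
  · intro hG x hx
    by_contra hx0
    exact hG x hx0 (hx none) fun i => hx (some i)
  · intro hG x hx0 hv hp
    exact hx0 (hG x fun t => by cases t; exacts [hv, hp _])

/-- The chain form `∑ y i ^ (d-1) * y (i+1) + y m ^ d`. -/
noncomputable def chain (k : Type u) [Field k] (m d : ℕ) : MvPolynomial (Fin (m + 1)) k :=
  ∑ i : Fin m, X i.castSucc ^ (d - 1) * X i.succ + X (Fin.last m) ^ d

theorem isHomogeneous_chain {m : ℕ} (hd : 1 ≤ d) : (chain k m d).IsHomogeneous d := by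
  refine (IsHomogeneous.sum _ _ _ fun i _ => ?_).add (by simpa using (isHomogeneous_X k (Fin.last m)).pow d)
  have := ((isHomogeneous_X k i.castSucc).pow (d - 1)).mul (isHomogeneous_X k i.succ)
  simpa [Nat.sub_add_cancel hd] using this

theorem chain_eq_zero {m : ℕ} (hd : 2 ≤ d) (hp : (d : k) = 0) (y : Fin (m + 1) → k)
    (h1 : ∀ i : Fin (m + 1), i ≠ 0 → eval y (pderiv i (chain k m d)) = 0)
    (h0 : eval y (chain k m d) - y 0 * eval y (pderiv 0 (chain k m d)) = 0) : y = 0 := by
  classical
  obtain ⟨e, rfl⟩ : ∃ e, d = e + 2 := ⟨d - 2, by omega⟩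
  have hd1 : ((e + 2 - 1 : ℕ) : k) = -1 := by
    rw [Nat.cast_sub (by omega), hp]; simp
  have hmul : ((e + 1 : ℕ) : k) = -1 := by rw [← hd1]; congr 1
  have hder : ∀ i : Fin (m + 1), eval y (pderiv i (chain k m (e + 2))) =
      ∑ j : Fin m, ((if j.castSucc = i then -(y j.castSucc ^ e * y j.succ) else 0) +
        if j.succ = i then y j.castSucc ^ (e + 1) else 0) := fun i => by
    simp only [chain, map_add, map_sum, pderiv_mul, pderiv_pow, map_mul, map_pow, eval_X, map_natCast,
      show e + 2 - 1 = e + 1 from rfl, show e + 1 - 1 = e from rfl, hp, hmul, zero_mul, add_zero]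
    refine Finset.sum_congr rfl fun j _ => ?_
    by_cases ha : j.castSucc = i <;> by_cases hb : j.succ = i <;>
      simp [pderiv_X, Pi.single_apply, ha, hb, eq_comm] <;> ring
  -- the equations say that neighbouring products vanish
  have hstep : ∀ j : Fin m, y j.castSucc ^ (e + 1) =
      ∑ l : Fin m, if l.castSucc = j.succ then y l.castSucc ^ e * y l.succ else 0 := fun j => by
    have h := h1 j.succ (Fin.succ_ne_zero j)
    rw [hder, Finset.sum_add_distrib] at h
    simp only [Fin.succ_inj, Finset.sum_ite_eq', Finset.mem_univ, if_true] at h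
    rw [show (∑ l : Fin m, if l.castSucc = j.succ then -(y l.castSucc ^ e * y l.succ) else 0) =
      -∑ l : Fin m, if l.castSucc = j.succ then y l.castSucc ^ e * y l.succ else 0 by
        rw [← Finset.sum_neg_distrib]; exact Finset.sum_congr rfl fun l _ => by split_ifs <;> simp] at h
    linear_combination h
  have hlast : ∀ j : Fin m, j.val + 1 = m → y j.castSucc = 0 := fun j hj => by
    have h := hstep j
    rw [Finset.sum_eq_zero fun l _ => if_neg fun hl => by
      have := congrArg Fin.val hl; simp at this; omega] at h
    exact (pow_eq_zero_iff (by omega)).1 h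
  -- all products of neighbours with the exponent vanish
  have hprod : ∀ r : ℕ, ∀ j : Fin m, j.val + 1 + r = m → y j.castSucc * y j.succ = 0 := by
    intro r
    induction r with
    | zero => intro j hj; rw [hlast j (by omega), zero_mul]
    | succ r ih =>
      intro j hj
      let l : Fin m := ⟨j.val + 1, by omega⟩
      have hl : l.castSucc = j.succ := Fin.ext (by simp [l])
      have h := hstep j
      rw [Finset.sum_eq_single l (fun b _ hb => if_neg fun hb' => hb (Fin.ext (by
        have := congrArg Fin.val hb'; simp [l] at this ⊢; omega))) (fun hh => absurd (Finset.mem_univ l) hh),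
        if_pos hl] at h
      have h2 := ih l (by simp [l]; omega)
      rw [← hl]
      have : (y j.castSucc * y l.castSucc) ^ (e + 1) = 0 := by
        rw [mul_pow, h]
        linear_combination (y l.castSucc ^ (2 * e)) * h2
      exact (pow_eq_zero_iff (by omega)).1 this
  have hP : ∀ j : Fin m, y j.castSucc * y j.succ = 0 := fun j =>
    hprod (m - (j.val + 1)) j (by have := j.2; omega)
  have hterm : ∀ j : Fin m, y j.castSucc ^ (e + 1) * y j.succ = 0 := fun j => by
    rw [pow_succ, mul_assoc, hP, mul_zero]
  have hval : y (Fin.last m) = 0 := by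
    have e0 : eval y (chain k m (e + 2)) = y (Fin.last m) ^ (e + 2) := by
      simp [chain, hterm]
    have e1 : y 0 * eval y (pderiv 0 (chain k m (e + 2))) = 0 := by
      rw [hder, Finset.mul_sum]
      refine Finset.sum_eq_zero fun j _ => ?_
      rw [if_neg (Fin.succ_ne_zero j), add_zero]
      split_ifs with hj
      · rw [← hj, mul_neg, show y j.castSucc * (y j.castSucc ^ e * y j.succ) = y j.castSucc ^ (e + 1) * y j.succ by ring,
          hterm, neg_zero]
      · rw [mul_zero]
    rw [e0, e1, sub_zero] at h0
    exact (pow_eq_zero_iff (by omega)).1 h0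
  have hdown : ∀ r : ℕ, ∀ i : Fin (m + 1), i.val + r = m → y i = 0 := by
    intro r
    induction r using Nat.strong_induction_on with
    | _ r ih =>
      intro i hi
      rcases Nat.eq_zero_or_pos r with rfl | hr
      · rw [show i = Fin.last m from Fin.ext (by simpa using hi)]; exact hval
      · let j : Fin m := ⟨i.val, by omega⟩
        have h := hstep j
        rw [Finset.sum_eq_zero fun l _ => by
          split_ifs with hl
          · rw [ih (r - 2) (by omega) l.succ (by
              have := congrArg Fin.val hl; have := l.2; simp [j] at *; omega), mul_zero]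
          · rfl] at h
        have : j.castSucc = i := Fin.ext (by simp [j])
        rw [← this]
        exact (pow_eq_zero_iff (by omega)).1 h
  funext i
  exact hdown (m - i.val) i (by have := i.2; omega)

variable [IsAlgClosed k]

theorem exists_smooth (hd : 2 ≤ d) : ∃ G : Form n k d, ¬ IsSing G := by
  classical
  by_cases hp : (d : k) = 0
  · refine ⟨⟨chain k n d, (mem_homogeneousSubmodule _ _).2 (isHomogeneous_chain (by omega))⟩,
      fun ⟨v, hv, h0, h1⟩ => hv (chain_eq_zero hd hp v (fun i _ => h1 i) ?_)⟩
    show eval v (chain k n d) - _ = 0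
    rw [h0, h1 0]; ring
  · refine ⟨⟨∑ i, X i ^ d, sum_mem fun i _ => (mem_homogeneousSubmodule _ _).2
      (by simpa using (isHomogeneous_X k i).pow d)⟩, fun ⟨v, hv, _, h1⟩ => hv (funext fun i => ?_)⟩
    have := h1 i
    simp [pderiv_X, Pi.single_apply, hp] at this
    exact this.1

/-- In a suitable direction, a general form has a singular translate. -/
theorem exists_direction (hn : 1 ≤ n) (hd : 2 ≤ d) :
    ∃ (b : Fin (n + 1) →₀ ℕ) (hb : b.degree = d), IsGeneric k {G : Form n k d |
      ∃ t : k, IsSing (G + t • (⟨monomial b 1, (mem_homogeneousSubmodule _ _).2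
        (isHomogeneous_monomial _ hb)⟩ : Form n k d))} := by
  classical
  obtain ⟨m, rfl⟩ : ∃ m, n = m + 1 := ⟨n - 1, by omega⟩
  have hom : ∀ (G : Form (m + 1) k d) i, (pderiv i G.1).IsHomogeneous (d - 1) := fun G i =>
    ((mem_homogeneousSubmodule _ _).1 G.2).pderiv
  have hzero : ∀ (e : ℕ) (p : MvPolynomial (Fin (m + 1 + 1)) k), p.IsHomogeneous e → e ≠ 0 → constantCoeff p = 0 :=
    fun e p hp he => hp.coeff_eq_zero (d := 0) (by simpa using fun h => he h.symm)
  by_cases hp : (d : k) = 0
  · -- the direction `x₀ ^ (d-1) x₁`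
    have hb : (Finsupp.single (0 : Fin (m + 1 + 1)) (d - 1) + Finsupp.single (Fin.succ 0) 1).degree = d := by
      rw [map_add, Finsupp.degree_single, Finsupp.degree_single]; omega
    refine ⟨_, hb, ?_⟩
    let E : Option {i : Fin (m + 2) // i ≠ 0 ∧ i ≠ Fin.succ 0} → Form (m + 1) k d → MvPolynomial (Fin (m + 2)) k :=
      fun t G => t.elim (G.1 - X (Fin.succ 0) * pderiv (Fin.succ 0) G.1) fun i => pderiv i.1 G.1
    let deg : Option {i : Fin (m + 2) // i ≠ 0 ∧ i ≠ Fin.succ 0} → ℕ := fun t => t.elim d fun _ => d - 1
    have hE : ∀ t G, (E t G).IsHomogeneous (deg t) := fun t G => by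
      cases t with
      | none =>
        refine ((mem_homogeneousSubmodule _ _).1 G.2).sub ?_
        have := (isHomogeneous_X k (Fin.succ (0 : Fin (m + 1)))).mul (hom G (Fin.succ 0))
        rwa [show 1 + (d - 1) = d by omega] at this
      | some i => exact hom G i.1
    have hZ := isZOpen_noCommonZero (k := k) (V := Form (m + 1) k d) (p := m + 1)
      (P := fun (t : Option (Option {i : Fin (m + 2) // i ≠ 0 ∧ i ≠ Fin.succ 0})) G =>
        t.elim (X 0) fun s => E s G)
      (e := fun t => t.elim 1 deg)
      (fun t G => by cases t; exacts [isHomogeneous_X k 0, hE _ G])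
      (fun t => by
        rcases t with _ | _ | i
        · exact isPolyFamily_const _
        · intro a
          simp only [Option.elim_some, E, Option.elim_none, coeff_sub]
          exact isPolyFun_sub (isPolyFamily_form a)
            (isPolyFamily_mul (isPolyFamily_const _) (isPolyFamily_pderiv _) a)
        · exact isPolyFamily_pderiv i.1)
    -- the chain on the hyperplane at infinity
    let W : Form (m + 1) k d := ⟨rename Fin.succ (chain k m d), (mem_homogeneousSubmodule _ _).2
      (isHomogeneous_chain (by omega)).rename_isHomogeneous⟩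
    obtain ⟨f, hf, hf0, hfs⟩ := hZ W fun x hx => by
      have hx0 : x 0 = 0 := by simpa using hx none
      have hsucc : ∀ i : Fin (m + 1), eval x (pderiv i.succ W.1) = eval (x ∘ Fin.succ) (pderiv i (chain k m d)) := fun i => by
        simp only [W, pderiv_rename (Fin.succ_injective _), eval_rename]
      have hy : x ∘ Fin.succ = 0 := chain_eq_zero hd hp _ (fun i hi => by
          rw [← hsucc]
          exact hx (some (some ⟨i.succ, Fin.succ_ne_zero i, fun h => hi (Fin.succ_injective _ h)⟩))) (by
          have := hx (some none)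
          simp only [Option.elim_some, Option.elim_none, E, map_sub, map_mul, eval_X, hsucc] at this
          simpa [W, eval_rename] using this)
      funext i
      refine Fin.cases ?_ (fun j => ?_) i
      exacts [hx0, congrFun hy j]
    refine ⟨f, hf, ⟨W, hf0⟩, fun G hG => ?_⟩
    have hgood := hfs G hG
    obtain ⟨v, hv, hvE⟩ := SmoothFormLib.exists_common_zero (Finset.univ.image fun t => E t G) (by
        refine lt_of_le_of_lt Finset.card_image_le ?_
        rw [Finset.card_univ, Fintype.card_option]
        have h1 : Fintype.card {i : Fin (m + 2) // i ≠ 0 ∧ i ≠ Fin.succ 0} < Fintype.card {i : Fin (m + 2) // i ≠ 0} := by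
          refine Fintype.card_lt_of_injective_not_surjective (fun i => ⟨i.1, i.2.1⟩)
            (fun i j h => Subtype.ext (congrArg Subtype.val h :)) fun hs => ?_
          obtain ⟨i, hi⟩ := hs ⟨Fin.succ 0, Fin.succ_ne_zero _⟩
          exact i.2.2 (congrArg Subtype.val hi)
        have h2 : Fintype.card {i : Fin (m + 2) // i ≠ 0} = m + 1 := by
          rw [← Fintype.card_congr (finSuccAboveEquiv (0 : Fin (m + 2))), Fintype.card_fin]
        omega) (fun p hp' => by
        obtain ⟨t, -, rfl⟩ := Finset.mem_image.1 hp'
        refine hzero (deg t) _ (hE t G) ?_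
        cases t <;> simp only [deg, Option.elim_some, Option.elim_none] <;> omega)
    have hvE' : ∀ t, eval v (E t G) = 0 := fun t => hvE _ (Finset.mem_image_of_mem _ (Finset.mem_univ t))
    have hv0 : v 0 ≠ 0 := fun h => hv (hgood v fun t => by cases t; exacts [by simpa using h, hvE' _])
    set t := -(eval v (pderiv (Fin.succ 0) G.1) / v 0 ^ (d - 1))
    refine ⟨t, v, hv, ?_⟩
    have hval : eval v G.1 = v (Fin.succ 0) * eval v (pderiv (Fin.succ 0) G.1) := by
      simpa [E, sub_eq_zero] using hvE' none
    set G' : Form (m + 1) k d := G + t • (⟨monomial _ 1, (mem_homogeneousSubmodule _ _).2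
        (isHomogeneous_monomial _ hb)⟩ : Form (m + 1) k d) with hG'
    have hH : (monomial (Finsupp.single (0 : Fin (m + 2)) (d - 1) + Finsupp.single (Fin.succ 0) 1) (1 : k)) =
        X 0 ^ (d - 1) * X (Fin.succ 0) := by
      rw [X_pow_eq_monomial, ← one_mul (1 : k), ← monomial_mul, one_mul]; rfl
    have hGe : G'.1 = G.1 + t • (X 0 ^ (d - 1) * X (Fin.succ 0)) := by rw [hG', ← hH]; rfl
    have c1 : eval v G'.1 = 0 := by
      rw [hGe, map_add, smul_eval, hval]
      simp [t]
      field_simp
      ring
    refine ⟨c1, fun i => ?_⟩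
    have hi1 : ∀ i, i ≠ 0 → eval v (pderiv i G'.1) = 0 := fun i hi => by
      rw [hGe]
      simp only [map_add, Derivation.map_smul, smul_eval, pderiv_mul, pderiv_pow, pderiv_X, map_mul, map_pow, eval_X]
      rcases eq_or_ne i (Fin.succ 0) with rfl | hi'
      · simp [t, hi, Pi.single_apply, (Fin.succ_ne_zero (0 : Fin (m + 1))).symm, hv0]
      · simp only [Pi.single_eq_of_ne hi.symm, Pi.single_eq_of_ne hi'.symm, map_zero, zero_mul, mul_zero, add_zero, smul_zero]
        exact hvE' (some ⟨i, hi, hi'⟩)
    rcases eq_or_ne i 0 with rfl | hi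
    · have := euler G' v
      rw [c1, mul_zero, Finset.sum_eq_single 0 (fun b _ hb => by rw [hi1 b hb, mul_zero])
        (fun h => absurd (Finset.mem_univ _) h)] at this
      exact (mul_eq_zero.1 this).resolve_left hv0
    · exact hi1 i hi
  · -- the direction `x₀ ^ d`
    have hb : (Finsupp.single (0 : Fin (m + 1 + 1)) d).degree = d := Finsupp.degree_single _ _
    refine ⟨_, hb, ?_⟩
    have hZ := isZOpen_noCommonZero (k := k) (V := Form (m + 1) k d) (p := m + 1)
      (P := fun (t : Option (Fin (m + 1))) G => t.elim (X 0) fun i => pderiv i.succ G.1)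
      (e := fun t => t.elim 1 fun _ => d - 1)
      (fun t G => by cases t; exacts [isHomogeneous_X k 0, hom G _])
      (fun t => by cases t with
        | none => exact isPolyFamily_const _
        | some i => exact isPolyFamily_pderiv i.succ)
    let W : Form (m + 1) k d := ⟨∑ i, X i ^ d, sum_mem fun i _ => (mem_homogeneousSubmodule _ _).2
      (by simpa using (isHomogeneous_X k i).pow d)⟩
    obtain ⟨f, hf, hf0, hfs⟩ := hZ W fun x hx => by
      funext i
      refine Fin.cases ?_ (fun j => ?_) i
      · simpa using hx none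
      · have h' := hx (some j)
        simp [W, pderiv_X, Pi.single_apply, hp] at h'
        exact h'.1
    refine ⟨f, hf, ⟨W, hf0⟩, fun G hG => ?_⟩
    have hgood := hfs G hG
    obtain ⟨v, hv, hvE⟩ := SmoothFormLib.exists_common_zero
      (Finset.univ.image fun i : Fin (m + 1) => pderiv i.succ G.1) (by
        refine lt_of_le_of_lt Finset.card_image_le ?_
        simp) (fun p hp' => by
        obtain ⟨t, -, rfl⟩ := Finset.mem_image.1 hp'
        exact hzero _ _ (hom G _) (by omega))
    have hvE' : ∀ i : Fin (m + 1), eval v (pderiv i.succ G.1) = 0 := fun i =>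
      hvE _ (Finset.mem_image_of_mem _ (Finset.mem_univ i))
    have hv0 : v 0 ≠ 0 := fun h => hv (hgood v fun t => by cases t; exacts [by simpa using h, hvE' _])
    set t := -(eval v (pderiv 0 G.1) / ((d : k) * v 0 ^ (d - 1)))
    refine ⟨t, v, hv, ?_⟩
    set G' : Form (m + 1) k d := G + t • (⟨monomial _ 1, (mem_homogeneousSubmodule _ _).2
        (isHomogeneous_monomial _ hb)⟩ : Form (m + 1) k d) with hG'
    have hGe : G'.1 = G.1 + t • (X 0 ^ d) := by rw [hG', X_pow_eq_monomial]; rfl
    have hall : ∀ i, eval v (pderiv i G'.1) = 0 := fun i => by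
      rw [hGe]
      simp only [map_add, Derivation.map_smul, smul_eval, pderiv_pow, pderiv_X, map_mul, map_pow, eval_X, map_natCast]
      refine Fin.cases ?_ (fun j => ?_) i
      · simp [t]
        field_simp
        ring
      · simp [Pi.single_apply, Fin.succ_ne_zero, hvE' j]
    refine ⟨?_, hall⟩
    have := euler G' v
    simp [hall, hp] at this
    exact this

end Groth.Agent.DiscIrr42
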