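import Groth.Agent.DiscIrr42.Algebra
import Groth.Agent.DiscIrr42.Pencil
import Mathlib.LinearAlgebra.Matrix.NonsingularInverse
import Mathlib.LinearAlgebra.Matrix.ToLinearEquiv

/-!
# The discriminant is irreducible
-/

set_option autoImplicit false

universe u

open LefPen MvPolynomial

namespace Groth.Agent.DiscIrr42

open Groth.Agent.Incid42 Groth.Agent.SmoothFormLib

variable {k : Type u} [Field k] {n d : ℕ}

theorem eval_single_of_isHomogeneous {e : ℕ} (g : MvPolynomial (Fin (n + 1)) k) (hg : g.IsHomogeneous e) :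
    eval (Pi.single 0 1 : Fin (n + 1) → k) g = coeff (Finsupp.single 0 e) g := by
  classical
  rw [eval_eq']
  rw [Finset.sum_eq_single (Finsupp.single 0 e)]
  · simp [Finset.prod_eq_one, Pi.single_apply, Finsupp.single_apply, eq_comm]
  · intro a ha hne
    obtain ⟨i, hi, hai⟩ : ∃ i, i ≠ 0 ∧ a i ≠ 0 := by
      by_contra! hc
      refine hne ?_
      have he : a = Finsupp.single 0 (a 0) := by
        ext i; rcases eq_or_ne i 0 with rfl | hi
        · simp
        · simp [hc i hi, hi]
      have : a.degree = e := by rw [Finsupp.degree_eq_weight_one]; exact hg (mem_support_iff.1 ha)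
      rw [he, Finsupp.degree_single] at this
      rw [he, this]
    rw [Finset.prod_eq_zero (Finset.mem_univ i) (by simp [hi, hai]), mul_zero]
  · intro h
    simp [notMem_support_iff.1 h]

/-- The coefficient `m` is allowed in a form singular at `e₀`. -/
def Good (n d : ℕ) (m : Mon n d) : Prop := m.1 0 + 1 < d

variable (k n d) in
/-- The variables of the parametrisation. -/
abbrev Par : Type := (Fin (n + 1) × Fin (n + 1)) ⊕ Mon n d

open Classical in
variable (k n d) in
/-- The generic singular form. -/
noncomputable def genForm : MvPolynomial (Fin (n + 1)) (MvPolynomial (Par n d) k) :=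
  linSub (Matrix.of fun i j => (X (Sum.inl (i, j)) : MvPolynomial (Par n d) k))
    (∑ m : Mon n d, monomial m.1 (if Good n d m then X (Sum.inr m) else 0))

variable (k n d) in
/-- The comorphism of the parametrisation. -/
noncomputable def theta : MvPolynomial (Mon n d) k →ₐ[k] MvPolynomial (Par n d) k :=
  aeval fun m => coeff m.1 (genForm k n d)

open Classical in
theorem map_genForm (z : Par n d → k) :
    MvPolynomial.map (eval z) (genForm k n d) =
      linSub (Matrix.of fun i j => z (Sum.inl (i, j)))
        (∑ m : Mon n d, monomial m.1 (if Good n d m then z (Sum.inr m) else 0)) := by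
  rw [genForm, map_linSub, map_sum]
  refine congrArg₂ (fun A g => linSub A g) ?_ ?_
  · ext i j
    simp
  · exact Finset.sum_congr rfl fun m _ => by rw [map_monomial]; split_ifs <;> simp

theorem isHomogeneous_genForm : (genForm k n d).IsHomogeneous d :=
  isHomogeneous_linSub _ (IsHomogeneous.sum _ _ _ fun m _ => isHomogeneous_monomial _ (mem_mon_iff.1 m.2))

/-- The form at a parameter. -/
noncomputable def formAt (z : Par n d → k) : Form n k d :=
  ⟨MvPolynomial.map (eval z) (genForm k n d), (mem_homogeneousSubmodule _ _).2 (by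
    exact (isHomogeneous_genForm (k := k) (n := n) (d := d)).map _)⟩

theorem coords_formAt (z : Par n d → k) (Q : MvPolynomial (Mon n d) k) :
    eval (formEquiv k n d (formAt z)) Q = eval z (theta k n d Q) := by
  rw [theta, eval_aeval]
  congr 2

theorem sing_at_e0 (hd : 2 ≤ d) (g : MvPolynomial (Fin (n + 1)) k) (hg : g.IsHomogeneous d)
    (h : ∀ m : Mon n d, ¬ Good n d m → coeff m.1 g = 0) :
    eval (Pi.single 0 1 : Fin (n + 1) → k) g = 0 ∧
      ∀ i, eval (Pi.single 0 1 : Fin (n + 1) → k) (pderiv i g) = 0 := by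
  refine ⟨?_, fun i => ?_⟩
  · rw [eval_single_of_isHomogeneous g hg]
    exact h ⟨_, mem_mon_iff.2 (Finsupp.degree_single _ _)⟩ (by simp [Good])
  · rw [eval_single_of_isHomogeneous _ hg.pderiv, coeff_pderiv]
    have hmem : (Finsupp.single (0 : Fin (n + 1)) (d - 1) + Finsupp.single i 1).degree = d := by
      rw [map_add, Finsupp.degree_single, Finsupp.degree_single]; omega
    rw [h ⟨_, mem_mon_iff.2 hmem⟩ (by
      simp only [Good, Finsupp.add_apply, Finsupp.single_eq_same, not_lt]; omega), zero_mul]

theorem isSing_linSub (hd : 2 ≤ d) (A : Matrix (Fin (n + 1)) (Fin (n + 1)) k) (g : MvPolynomial (Fin (n + 1)) k)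
    (hg : g.IsHomogeneous d) (h0 : eval (Pi.single 0 1 : Fin (n + 1) → k) g = 0)
    (h1 : ∀ i, eval (Pi.single 0 1 : Fin (n + 1) → k) (pderiv i g) = 0) :
    IsSing (n := n) (d := d) ⟨linSub A g, (mem_homogeneousSubmodule _ _).2 (isHomogeneous_linSub A hg)⟩ := by
  classical
  by_cases hdet : A.det = 0
  · obtain ⟨v, hv, hAv⟩ := Matrix.exists_mulVec_eq_zero_iff.2 hdet
    have hz : ∀ {e : ℕ} (p : MvPolynomial (Fin (n + 1)) k), p.IsHomogeneous e → e ≠ 0 → eval 0 p = 0 := by
      intro e p hp he
      have := eval_smul_of_isHomogeneous hp (0 : k) (0 : Fin (n + 1) → k)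
      rwa [zero_smul, zero_pow he, zero_mul] at this
    refine ⟨v, hv, ?_, fun i => ?_⟩
    · show eval v (linSub A g) = 0
      rw [eval_linSub, hAv]; exact hz g hg (by omega)
    · show eval v (pderiv i (linSub A g)) = 0
      rw [pderiv_linSub, map_sum]
      refine Finset.sum_eq_zero fun l _ => ?_
      rw [map_mul, eval_linSub, hAv, hz _ hg.pderiv (by omega), zero_mul]
  · have hu : IsUnit A.det := isUnit_iff_ne_zero.2 hdet
    refine ⟨A⁻¹.mulVec (Pi.single 0 1), fun h => ?_, ?_, fun i => ?_⟩
    · have := congrArg A.mulVec h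
      rw [Matrix.mulVec_mulVec, Matrix.mul_nonsing_inv _ hu, Matrix.one_mulVec, Matrix.mulVec_zero] at this
      simpa using congrFun this 0
    · show eval _ (linSub A g) = 0
      rw [eval_linSub, Matrix.mulVec_mulVec, Matrix.mul_nonsing_inv _ hu, Matrix.one_mulVec, h0]
    · show eval _ (pderiv i (linSub A g)) = 0
      rw [pderiv_linSub, map_sum]
      refine Finset.sum_eq_zero fun l _ => ?_
      rw [map_mul, eval_linSub, Matrix.mulVec_mulVec, Matrix.mul_nonsing_inv _ hu, Matrix.one_mulVec, h1, zero_mul]

open Classical in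
theorem isSing_formAt (hd : 2 ≤ d) (z : Par n d → k) : IsSing (formAt z) := by
  let g := ∑ m : Mon n d, monomial m.1 (if Good n d m then z (Sum.inr m) else 0)
  have hg : g.IsHomogeneous d := IsHomogeneous.sum _ _ _ fun m _ => isHomogeneous_monomial _ (mem_mon_iff.1 m.2)
  obtain ⟨h0, h1⟩ := sing_at_e0 hd g hg fun m hm => by
    simp only [g, coeff_sum, coeff_monomial]
    refine Finset.sum_eq_zero fun b _ => ?_
    split_ifs with hb hgood
    · exact absurd (Subtype.ext hb ▸ hgood) hm
    · rfl
    · rfl
  have := isSing_linSub hd (Matrix.of fun i j => z (Sum.inl (i, j))) g hg h0 h1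
  convert this using 1
  exact Subtype.ext (map_genForm z)

theorem exists_matrix (v : Fin (n + 1) → k) (hv : v ≠ 0) :
    ∃ A : Matrix (Fin (n + 1)) (Fin (n + 1)) k, IsUnit A.det ∧ A.mulVec (Pi.single 0 1) = v := by
  classical
  obtain ⟨c, hc⟩ : ∃ c, v c ≠ 0 := Function.ne_iff.1 hv
  let A : Matrix (Fin (n + 1)) (Fin (n + 1)) k :=
    Matrix.of fun i j => if j = 0 then v i else if i = Equiv.swap 0 c j then 1 else 0
  refine ⟨A, isUnit_iff_ne_zero.2 fun h => ?_, funext fun i => by simp [A, Matrix.mulVec_single]⟩
  obtain ⟨x, hx, hAx⟩ := Matrix.exists_mulVec_eq_zero_iff.2 h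
  have hrow : ∀ i, v i * x 0 + (if Equiv.swap 0 c i = 0 then 0 else x (Equiv.swap 0 c i)) = 0 := fun i => by
    have h' := congrFun hAx i
    simp only [Matrix.mulVec, dotProduct, A, Matrix.of_apply, Pi.zero_apply] at h'
    have e : ∀ j : Fin (n + 1), (if j = 0 then v i else if i = Equiv.swap 0 c j then 1 else 0) * x j =
        (if j = 0 then v i * x 0 else 0) + (if j = Equiv.swap 0 c i then (if j = 0 then 0 else x j) else 0) := fun j => by
      have hiff : i = Equiv.swap 0 c j ↔ j = Equiv.swap 0 c i :=
        ⟨fun h => by rw [h, Equiv.swap_apply_self], fun h => by rw [h, Equiv.swap_apply_self]⟩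
      by_cases hj : j = 0
      · subst hj; simp
      · simp only [if_neg hj, hiff, zero_add]
        split_ifs <;> simp
    rw [Finset.sum_congr rfl fun j _ => e j, Finset.sum_add_distrib, Finset.sum_ite_eq', Finset.sum_ite_eq',
      if_pos (Finset.mem_univ _), if_pos (Finset.mem_univ _)] at h'
    exact h'
  refine hx (funext fun j => ?_)
  have h0 : x 0 = 0 := by
    have := hrow c
    simpa [hc] using this
  rcases eq_or_ne j 0 with rfl | hj
  · exact h0
  · have := hrow (Equiv.swap 0 c j)
    simpa [h0, hj] using this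

open Classical in
theorem exists_formAt (hd : 2 ≤ d) {G : Form n k d} (hG : IsSing G) : ∃ z, formAt z = G := by
  obtain ⟨v, hv, h0, h1⟩ := hG
  obtain ⟨A, hA, hAv⟩ := exists_matrix v hv
  have hG' := (mem_homogeneousSubmodule _ _).1 G.2
  set g := linSub A G.1 with hg
  have hgh : g.IsHomogeneous d := isHomogeneous_linSub A hG'
  have hbad : ∀ m : Mon n d, ¬ Good n d m → coeff m.1 g = 0 := by
    have e0 : eval (Pi.single 0 1 : Fin (n + 1) → k) g = 0 := by rw [hg, eval_linSub, hAv]; exact h0
    have e1 : ∀ i, eval (Pi.single 0 1 : Fin (n + 1) → k) (pderiv i g) = 0 := fun i => by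
      rw [hg, pderiv_linSub, map_sum]
      refine Finset.sum_eq_zero fun l _ => ?_
      rw [map_mul, eval_linSub, hAv, h1, zero_mul]
    intro m hm
    have hdeg : ∑ i, m.1 i = d := by rw [← Finsupp.degree_eq_sum]; exact mem_mon_iff.1 m.2
    have hcase : d - 1 ≤ m.1 0 := by simp only [Good, not_lt] at hm; omega
    rw [Fin.sum_univ_succ] at hdeg
    by_cases h : m.1 0 = d
    · have : m.1 = Finsupp.single 0 d := by
        ext i
        refine Fin.cases (by simpa using h) (fun j => ?_) i
        have := Finset.single_le_sum (f := fun j : Fin n => m.1 j.succ) (fun _ _ => Nat.zero_le _) (Finset.mem_univ j)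
        simp only [Finsupp.single_apply, (Fin.succ_ne_zero j).symm, if_false]
        omega
      rw [this, ← eval_single_of_isHomogeneous g hgh, e0]
    · obtain ⟨j, hj⟩ : ∃ j : Fin n, m.1 j.succ ≠ 0 := by
        by_contra! hc
        simp [hc] at hdeg
        exact h hdeg
      have hm' : m.1 = Finsupp.single 0 (d - 1) + Finsupp.single j.succ 1 := by
        ext i
        have hs := Finset.single_le_sum (f := fun j : Fin n => m.1 j.succ) (fun _ _ => Nat.zero_le _) (Finset.mem_univ j)
        refine Fin.cases ?_ (fun l => ?_) i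
        · simp [Finsupp.single_apply, Fin.succ_ne_zero]; omega
        · rcases eq_or_ne l j with rfl | hl
          · simp [Finsupp.single_apply, (Fin.succ_ne_zero l).symm]; omega
          · have := Finset.sum_le_sum_of_subset (f := fun j : Fin n => m.1 j.succ) (Finset.subset_univ {j, l})
            rw [Finset.sum_pair hl.symm] at this
            simp [Finsupp.single_apply, (Fin.succ_ne_zero l).symm, hl.symm]
            omega
      have := e1 j.succ
      rw [eval_single_of_isHomogeneous _ hgh.pderiv, coeff_pderiv, ← hm'] at this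
      simpa [Finsupp.single_apply, (Fin.succ_ne_zero j).symm] using this
  refine ⟨Sum.elim (fun p => A⁻¹ p.1 p.2) (fun m => coeff m.1 g), Subtype.ext ?_⟩
  show MvPolynomial.map _ (genForm k n d) = _
  rw [map_genForm]
  have e : (∑ m : Mon n d, monomial m.1 (if Good n d m then coeff m.1 g else 0)) = g := by
    rw [Finset.sum_congr rfl fun m _ => show monomial m.1 (if Good n d m then coeff m.1 g else 0) = monomial m.1 (coeff m.1 g) by
      split_ifs with hgd
      · rfl
      · rw [hbad m hgd]]
    exact congrArg Subtype.val ((formEquiv k n d).symm_apply_apply ⟨g, (mem_homogeneousSubmodule _ _).2 hgh⟩)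
  simp only [Sum.elim_inl, Sum.elim_inr]
  rw [e, hg, ← linSub_mul, show A * Matrix.of (fun i j => A⁻¹ i j) = 1 from Matrix.mul_nonsing_inv A hA, linSub_one]

variable [IsAlgClosed k]

theorem isSing_iff_forall (hd : 2 ≤ d) (G : Form n k d) :
    IsSing G ↔ ∀ Q ∈ RingHom.ker (theta k n d), eval (formEquiv k n d G) Q = 0 := by
  constructor
  · intro hG Q hQ
    obtain ⟨z, rfl⟩ := exists_formAt hd hG
    rw [coords_formAt, RingHom.mem_ker.1 hQ, map_zero]
  · intro h
    by_contra hG
    obtain ⟨f, hf, hfG, hfs⟩ := isZOpen_smooth (by omega) G hG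
    obtain ⟨Q, hQ⟩ := exists_eval_eq (Module.Basis.ofEquivFun (formEquiv k n d)) hf
    refine hfG ?_
    rw [hQ]
    exact h Q (RingHom.mem_ker.2 (MvPolynomial.funext fun z => by
      rw [map_zero, ← coords_formAt]
      by_contra hne
      refine hfs (formAt z) ?_ (isSing_formAt hd z)
      rw [hQ]; exact hne))

theorem exists_irreducible_equation (hn : 1 ≤ n) (hd : 2 ≤ d) :
    ∃ P : MvPolynomial (Mon n d) k, Irreducible P ∧
      ∀ G : Form n k d, IsSing G ↔ eval (formEquiv k n d G) P = 0 := by
  classical
  obtain ⟨b, hb, hgen⟩ := exists_direction (k := k) hn hd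
  let i₀ : Mon n d := ⟨b, mem_mon_iff.2 hb⟩
  set H : Form n k d := ⟨monomial b 1, (mem_homogeneousSubmodule _ _).2 (isHomogeneous_monomial _ hb)⟩
  haveI : (RingHom.ker (theta k n d)).IsPrime := RingHom.ker_isPrime _
  have hfree : ∀ q : MvPolynomial {i // i ≠ i₀} k, rename Subtype.val q ∈ RingHom.ker (theta k n d) → q = 0 := by
    intro q hq
    have hz : ∀ x, eval x (rename Subtype.val q) = 0 := by
      obtain ⟨f, hf, hf0, hfs⟩ := hgen
      obtain ⟨Q, hQ⟩ := exists_eval_eq (Module.Basis.ofEquivFun (formEquiv k n d)) hf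
      have hmul : Q * rename Subtype.val q = 0 := MvPolynomial.funext fun x => by
        rw [map_mul, map_zero]
        by_cases hx : eval x Q = 0
        · rw [hx, zero_mul]
        obtain ⟨t, ht⟩ := hfs ((formEquiv k n d).symm x) (by
          rw [hQ]
          simpa using hx)
        have := (isSing_iff_forall hd _).1 ht _ hq
        rw [eval_rename] at this ⊢
        rw [show (formEquiv k n d ((formEquiv k n d).symm x + t • H) ∘ Subtype.val : {i // i ≠ i₀} → k) =
            x ∘ Subtype.val from funext fun i => ?_] at this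
        · rw [this, mul_zero]
        · simp only [Function.comp_apply, map_add, map_smul, LinearEquiv.apply_symm_apply, Pi.add_apply,
            Pi.smul_apply, smul_eq_mul]
          show x i.1 + t * coeff i.1.1 (monomial b (1 : k)) = x i.1
          rw [coeff_monomial, if_neg fun e => i.2 (Subtype.ext e.symm)]
          simp
      rcases mul_eq_zero.1 hmul with h | h
      · obtain ⟨G, hG⟩ := hf0
        exact absurd (by rw [hQ, h, map_zero]) hG
      · intro x; rw [h, map_zero]
    exact rename_injective _ Subtype.val_injective (by rw [map_zero]; exact MvPolynomial.funext fun x => by rw [hz, map_zero])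
  have hne : RingHom.ker (theta k n d) ≠ ⊥ := fun h => by
    obtain ⟨G, hG⟩ := exists_smooth (k := k) (n := n) hd
    exact hG ((isSing_iff_forall hd G).2 fun Q hQ => by
      rw [h, Ideal.mem_bot] at hQ
      rw [hQ, map_zero])
  obtain ⟨P, hP, hspan⟩ := exists_irreducible_span_mv i₀ _ hne hfree
  refine ⟨P, hP, fun G => ?_⟩
  rw [isSing_iff_forall hd, hspan]
  refine ⟨fun h => h P (Ideal.mem_span_singleton_self P), fun h Q hQ => ?_⟩
  obtain ⟨c, rfl⟩ := Ideal.mem_span_singleton.1 hQ
  rw [map_mul, h, zero_mul]

/-- Polynomial functions on forms are polynomials in the coefficients. -/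
theorem exists_algEquiv : ∃ e : MvPolynomial (Mon n d) k ≃ₐ[k]
    ↥(Algebra.adjoin k (Set.range (fun l : Module.Dual k (Form n k d) => (l : Form n k d → k)))),
    ∀ P G, (e P).1 G = eval (formEquiv k n d G) P := by
  let φ : MvPolynomial (Mon n d) k →ₐ[k] (Form n k d → k) :=
    aeval fun m => fun G => formEquiv k n d G m
  have hφ : ∀ P G, φ P G = eval (formEquiv k n d G) P := fun P G => by
    induction P using MvPolynomial.induction_on with
    | C a => simp [φ]
    | add p q hp hq => simp [hp, hq]
    | mul_X p i hp => simp [hp, φ]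
  have hinj : Function.Injective φ := fun P Q h => MvPolynomial.funext fun x => by
    have := congrFun h ((formEquiv k n d).symm x)
    simpa [hφ] using this
  have hrange : φ.range = Algebra.adjoin k (Set.range (fun l : Module.Dual k (Form n k d) => (l : Form n k d → k))) := by
    refine le_antisymm ?_ fun f hf => ?_
    · rintro _ ⟨P, rfl⟩
      show IsPolyFun k (φ P)
      rw [show φ P = fun G => eval (formEquiv k n d G) P from funext (hφ P)]
      exact isPolyFun_eval P _ fun m => isPolyFun_linear ((LinearMap.proj m).comp (formEquiv k n d).toLinearMap)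
    · obtain ⟨p, hp⟩ := exists_eval_eq (Module.Basis.ofEquivFun (formEquiv k n d)) (show IsPolyFun k f from hf)
      exact ⟨p, funext fun G => by show φ p G = f G; rw [hp, hφ]; simp⟩
  refine ⟨(AlgEquiv.ofInjective φ hinj).trans (Subalgebra.equivOfEq _ _ hrange), fun P G => ?_⟩
  exact hφ P G

end Groth.Agent.DiscIrr42
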